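import Cfsg.Agent.Grp.PPart
import Mathlib.RingTheory.Polynomial.Cyclotomic.Eval
import Mathlib.RingTheory.Polynomial.Cyclotomic.Roots
import Mathlib.RingTheory.Polynomial.Cyclotomic.Expand
import Mathlib.NumberTheory.Multiplicity

/-!
# Large divisors of `p ^ n - 1` (a Zsigmondy type estimate)
-/

set_option autoImplicit false

namespace Cfsg.CycBig

open Polynomial

/-- The value `|Φ_n(q)|`. -/
noncomputable def cyc (n q : ℕ) : ℕ := ((cyclotomic n ℤ).eval (q : ℤ)).natAbs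

theorem cast_pow_sub_one {q : ℕ} (hq : 1 ≤ q) (n : ℕ) : ((q ^ n - 1 : ℕ) : ℤ) = (q : ℤ) ^ n - 1 := by
  rw [Nat.cast_sub (Nat.one_le_pow _ _ hq)]; simp

theorem cyc_dvd (n : ℕ) {q : ℕ} (hq : 1 ≤ q) : cyc n q ∣ q ^ n - 1 := by
  rw [cyc, ← Int.natAbs_natCast (q ^ n - 1), Int.natAbs_dvd_natAbs, cast_pow_sub_one hq]
  simpa using eval_dvd (x := (q : ℤ)) (cyclotomic.dvd_X_pow_sub_one n ℤ)

theorem lt_cyc {n q : ℕ} (hn : 1 < n) (hq : q ≠ 1) : (q - 1) ^ n.totient < cyc n q :=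
  sub_one_pow_totient_lt_natAbs_cyclotomic_eval hn hq

theorem cyc_dvd_geom {d e q : ℕ} (hd : 0 < d) (he : 1 < e) (hq : 1 < q) :
    (cyc (d * e) q : ℤ) ∣ ∑ i ∈ Finset.range e, ((q : ℤ) ^ d) ^ i := by
  have h1 := eval_dvd (x := (q : ℤ)) (X_pow_sub_one_mul_cyclotomic_dvd_X_pow_sub_one_of_dvd ℤ
    (d := d) (n := d * e) (Nat.mem_properDivisors.mpr ⟨Dvd.intro _ rfl, by nlinarith⟩))
  simp only [eval_mul, eval_sub, eval_pow, eval_X, eval_one] at h1
  rw [pow_mul, ← mul_geom_sum ((q : ℤ) ^ d) e] at h1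
  have h2 : (q : ℤ) ^ d - 1 ≠ 0 := by
    have : (1 : ℤ) < (q : ℤ) ^ d := one_lt_pow₀ (by exact_mod_cast hq) hd.ne'
    omega
  rw [cyc, Int.natAbs_dvd]
  exact (mul_dvd_mul_iff_left h2).mp h1

theorem isPrimitiveRoot_of_dvd {n q l : ℕ} [hl : Fact l.Prime] (h : l ∣ cyc n q) (hn : ¬ l ∣ n) :
    IsPrimitiveRoot (q : ZMod l) n := by
  have : NeZero (n : ZMod l) := ⟨by rwa [Ne, ZMod.natCast_eq_zero_iff]⟩
  rw [← isRoot_cyclotomic_iff, IsRoot.def]
  have h1 := cyclotomic.eval_apply (q : ℤ) n (Int.castRingHom (ZMod l))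
  rw [cyc, ← Int.natCast_dvd, ← ZMod.intCast_zmod_eq_zero_iff_dvd] at h
  simpa [h] using h1

theorem dvd_sub_one_of_dvd {n q l : ℕ} (hl : l.Prime) (hn0 : n ≠ 0) (h : l ∣ cyc n q)
    (hn : ¬ l ∣ n) : n ∣ l - 1 := by
  have : Fact l.Prime := ⟨hl⟩
  have h1 := isPrimitiveRoot_of_dvd h hn
  exact h1.dvd_of_pow_eq_one _ (ZMod.pow_card_sub_one_eq_one (h1.ne_zero hn0))

theorem not_sq_dvd {n q l : ℕ} (hl : l.Prime) (hn : 2 < n) (hq : 1 < q) (hq2 : Odd q)
    (hln : l ∣ n) : ¬ l ^ 2 ∣ cyc n q := by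
  intro h
  obtain ⟨d, rfl⟩ := hln
  have hd : 0 < d := Nat.pos_of_ne_zero (by rintro rfl; simp at hn)
  have h' : ((l : ℤ)) ^ 2 ∣ cyc (l * d) q := by exact_mod_cast h
  rcases hl.eq_two_or_odd' with rfl | hodd
  · rcases Nat.even_or_odd' d with ⟨e, rfl | rfl⟩
    · have h1 : ((2 : ℕ) : ℤ) ^ 2 ∣ ∑ i ∈ Finset.range (0 + 1 + 1), ((q : ℤ) ^ (2 * e)) ^ i :=
        h'.trans (mul_comm 2 (2 * e) ▸ cyc_dvd_geom hd one_lt_two hq)
      obtain ⟨c, hc⟩ : Odd ((q : ℤ) ^ e) := Odd.pow (by exact_mod_cast hq2)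
      rw [Finset.sum_range_succ, Finset.sum_range_succ, Finset.sum_range_zero, mul_comm 2 e,
        pow_mul, hc] at h1
      obtain ⟨b, hb⟩ := h1
      have : (2 : ℤ) * (2 * (c ^ 2 + c - b) + 1) = 0 := by push_cast at hb; linear_combination hb
      omega
    · have h1 := ((dvd_pow_self _ two_ne_zero).trans h').trans
        (cyc_dvd_geom two_pos (by omega) hq)
      have h2 : Odd (∑ i ∈ Finset.range (2 * e + 1), ((q : ℤ) ^ 2) ^ i) := by
        have h3 : Odd (∑ i ∈ Finset.range (2 * e + 1), (q ^ 2) ^ i) := by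
          rw [Finset.odd_sum_iff_odd_card_odd, Finset.filter_true_of_mem fun i _ =>
            Odd.pow (Odd.pow hq2)]
          simp
        exact_mod_cast h3
      exact (Int.not_even_iff_odd.mpr h2) (even_iff_two_dvd.mpr (by exact_mod_cast h1))
  · have : Fact l.Prime := ⟨hl⟩
    have h1 := h'.trans (mul_comm l d ▸ cyc_dvd_geom hd hl.one_lt hq)
    have hp : Prime (l : ℤ) := Nat.prime_iff_prime_int.mp hl
    have h2 : (l : ℤ) ∣ (q : ℤ) ^ d - 1 := by
      have h3 : (l : ℤ) ∣ ((q : ℤ) ^ d) ^ l - 1 := by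
        rw [← mul_geom_sum]
        exact ((dvd_pow_self _ two_ne_zero).trans h1).mul_left _
      rw [← ZMod.intCast_zmod_eq_zero_iff_dvd] at h3 ⊢
      push_cast at h3 ⊢
      rwa [ZMod.pow_card] at h3
    have h4 := emultiplicity_geom_sum₂_eq_one hp hodd h2 fun h5 =>
      hp.not_dvd_one (by simpa using dvd_sub h5 h2)
    simp only [one_pow, mul_one] at h4
    have h6 := pow_dvd_iff_le_emultiplicity.mp h1
    rw [h4] at h6
    exact absurd h6 (by norm_num)

theorem small_dvd {n q : ℕ} (hn : 2 < n) (hq : 1 < q) (hq2 : Odd q) :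
    natPiPart {l | l ≤ n} (cyc n q) ∣ n := by
  rw [Nat.dvd_iff_prime_pow_dvd_dvd]
  intro l k hl hk
  have key : l ∣ natPiPart {l | l ≤ n} (cyc n q) → l ∣ n := fun h => by
    by_contra hc
    have h1 : l ≤ n := isPiNumber_natPiPart _ _ l hl h
    have h2 := Nat.le_of_dvd (by have := hl.two_le; omega)
      (dvd_sub_one_of_dvd hl (by omega) (h.trans (natPiPart_dvd _ _)) hc)
    have := hl.two_le
    omega
  rcases k with _ | _ | k
  · simp
  · simpa using key (by simpa using hk)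
  · exact absurd (((pow_dvd_pow l (by omega)).trans hk).trans (natPiPart_dvd _ _))
      (not_sq_dvd hl hn hq hq2 (key ((dvd_pow_self l (by omega)).trans hk)))

theorem le_two_mul_totient_sq (n : ℕ) : n ≤ 2 * n.totient ^ 2 ∧ (Odd n → n ≤ n.totient ^ 2) := by
  induction n using Nat.recOnPosPrimePosCoprime with
  | zero => simp
  | one => simp
  | prime_pow l k hl hk =>
    rw [Nat.totient_prime_pow hl hk]
    obtain ⟨k, rfl⟩ : ∃ j, k = j + 1 := ⟨k - 1, by omega⟩
    obtain ⟨m, rfl⟩ : ∃ m, l = m + 1 := ⟨l - 1, by have := hl.pos; omega⟩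
    have h1 : 1 ≤ m := by have := hl.two_le; omega
    have h2 : 1 ≤ (m + 1) ^ k := Nat.one_le_pow _ _ (by omega)
    simp only [Nat.add_sub_cancel, pow_succ (m + 1) k]
    generalize (m + 1) ^ k = t at h2 ⊢
    constructor
    · have : m + 1 ≤ 2 * m ^ 2 := by nlinarith
      calc t * (m + 1) ≤ t * (2 * m ^ 2) := Nat.mul_le_mul_left _ this
        _ ≤ t * t * (2 * m ^ 2) := Nat.mul_le_mul_right _ (by nlinarith)
        _ = _ := by ring
    · intro ho
      have h3 : 2 ≤ m := by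
        by_contra h
        obtain rfl : m = 1 := by omega
        exact absurd (Nat.odd_mul.mp ho).2 (by decide)
      have : m + 1 ≤ m ^ 2 := by nlinarith
      calc t * (m + 1) ≤ t * m ^ 2 := Nat.mul_le_mul_left _ this
        _ ≤ t * t * m ^ 2 := Nat.mul_le_mul_right _ (by nlinarith)
        _ = _ := by ring
  | coprime a b ha hb hab iha ihb =>
    rw [Nat.totient_mul hab, mul_pow]
    refine ⟨?_, fun ho => Nat.mul_le_mul (iha.2 (Nat.odd_mul.mp ho).1) (ihb.2 (Nat.odd_mul.mp ho).2)⟩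
    rcases Nat.even_or_odd a with h | h
    · have h' : Odd b := Nat.coprime_two_left.mp (hab.coprime_dvd_left (even_iff_two_dvd.mp h))
      rw [← mul_assoc]
      exact Nat.mul_le_mul iha.1 (ihb.2 h')
    · rw [mul_left_comm]
      exact Nat.mul_le_mul (iha.2 h) ihb.1

/-- `m` is a large divisor of `p ^ n - 1` made of primes `> n + 1`, or a power of `n + 1`. -/
def Good (p n m : ℕ) : Prop :=
  m ∣ p ^ n - 1 ∧ n * (p - 3) + 1 < m ∧ (IsPiNumber {l | n + 1 < l} m ∨ IsPiNumber {n + 1} m)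

/-- Remove the primes dividing `F`. -/
def strip (F : ℕ) : ℕ → ℕ → ℕ
  | 0, N => N
  | k + 1, N => strip F k (N / Nat.gcd N F)

/-- numerical check -/
def chk (p n : ℕ) : Bool :=
  (p ^ n - 1) % strip (n + 1).factorial 3 (p ^ n - 1) == 0 &&
    Nat.gcd (strip (n + 1).factorial 3 (p ^ n - 1)) (n + 1).factorial == 1 &&
    decide (n * (p - 3) + 1 < strip (n + 1).factorial 3 (p ^ n - 1))

theorem good_of_chk {p n : ℕ} (h : chk p n = true) : ∃ m, Good p n m := by
  simp only [chk, Bool.and_eq_true, beq_iff_eq, decide_eq_true_eq] at h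
  refine ⟨_, Nat.dvd_of_mod_eq_zero h.1.1, h.2, Or.inl fun l hl hd => ?_⟩
  by_contra hc
  have h1 : l ∣ (n + 1).factorial := (hl.dvd_factorial).mpr (by simpa using hc)
  exact hl.one_lt.ne' (Nat.eq_one_of_dvd_coprimes h.1.2 hd h1)

theorem chk_all : ([5, 7, 11, 13, 17, 19, 23, 29, 31, 37, 41, 43, 47, 53, 59].all fun p =>
    (List.range 451).all fun n => n < 3 || n == 4 || chk p n) = true := by
  decide +kernel

theorem mem_primes {p : ℕ} (hp : p.Prime) (h5 : 5 ≤ p) (h : p < 60) :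
    p ∈ [5, 7, 11, 13, 17, 19, 23, 29, 31, 37, 41, 43, 47, 53, 59] := by
  interval_cases p <;> first | decide | exact absurd hp (by norm_num)

theorem totient_small : ∀ n ≤ 50, n.totient ≤ 5 → n ≤ 12 ∧
    (n.totient ≤ 3 → n ≤ 4 ∨ n = 6) := by
  decide +kernel

theorem pow_ge_aux {a c : ℕ} (ha : 4 ≤ a) (hc : 6 ≤ c) (h : 16 * c ^ 6 ≤ a ^ (c - 2)) {f : ℕ}
    (hf : c ≤ f) : 16 * f ^ 6 ≤ a ^ (f - 2) := by
  induction f, hf using Nat.le_induction with
  | base => exact h
  | succ f hf ih =>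
    have h1 : (f + 1) ^ 6 ≤ 4 * f ^ 6 := by
      have h2 : 6 * (f + 1) ≤ 7 * f := by omega
      have h3 := Nat.pow_le_pow_left h2 6
      rw [mul_pow, mul_pow] at h3
      norm_num at h3
      omega
    rw [show f + 1 - 2 = f - 2 + 1 by omega, pow_succ]
    calc 16 * (f + 1) ^ 6 ≤ 16 * f ^ 6 * 4 := by omega
      _ ≤ _ := Nat.mul_le_mul ih ha

theorem exists_good {p n : ℕ} (hp : p.Prime) (h5 : 5 ≤ p) (hn : 3 ≤ n) (hn4 : n ≠ 4) :
    ∃ m, Good p n m := by
  by_cases hs : p < 60 ∧ n ≤ 450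
  · have h1 := chk_all
    rw [List.all_eq_true] at h1
    have h2 := h1 p (mem_primes hp h5 hs.1)
    rw [List.all_eq_true] at h2
    have h3 := h2 n (List.mem_range.mpr (by omega))
    simp only [Bool.or_eq_true, decide_eq_true_eq, beq_iff_eq] at h3
    exact good_of_chk (h3.resolve_left (by omega))
  have hodd : Odd p := hp.odd_of_ne_two (by omega)
  have hcyc : ∀ d, 2 < d → cyc d p ≤ d * natPiPart {l | l ≤ d}ᶜ (cyc d p) := fun d hd => by
    have h0 : cyc d p ≠ 0 := by have := lt_cyc (n := d) (q := p) (by omega) (by omega); omega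
    conv_lhs => rw [← natPiPart_mul_natPiPart_compl {l | l ≤ d} h0]
    exact Nat.mul_le_mul_right _ (Nat.le_of_dvd (by omega) (small_dvd hd (by omega) hodd))
  have hdvd : ∀ d, natPiPart {l | l ≤ d}ᶜ (cyc d p) ∣ p ^ d - 1 := fun d =>
    (natPiPart_dvd _ _).trans (cyc_dvd d (by omega))
  by_cases h36 : n = 3 ∨ n = 6
  · have hp60 : 60 ≤ p := by omega
    obtain ⟨s, rfl⟩ : ∃ s, p = s + 60 := ⟨p - 60, by omega⟩
    have h3 := (lt_cyc (n := 3) (q := s + 60) (by omega) (by omega)).trans_le (hcyc 3 (by omega))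
    have h6 := (lt_cyc (n := 6) (q := s + 60) (by omega) (by omega)).trans_le (hcyc 6 (by omega))
    rw [show Nat.totient 3 = 2 by decide, show s + 60 - 1 = s + 59 by omega] at h3
    rw [show Nat.totient 6 = 2 by decide, show s + 60 - 1 = s + 59 by omega] at h6
    have hp3 : ∀ l, l.Prime → l ∣ natPiPart {l | l ≤ 3}ᶜ (cyc 3 (s + 60)) → 7 ≤ l :=
      fun l hl hd => by
        have h1 : ¬ l ≤ 3 := isPiNumber_natPiPart _ _ l hl hd
        have h2 := dvd_sub_one_of_dvd hl (by omega) (hd.trans (natPiPart_dvd _ _))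
          fun h => h1 (Nat.le_of_dvd (by omega) h)
        by_contra h7
        have : l = 4 := by omega
        exact absurd hl (this ▸ by norm_num)
    rcases h36 with rfl | rfl
    · refine ⟨_, hdvd 3, ?_, Or.inl fun l hl hd => ?_⟩
      · rw [show s + 60 - 3 = s + 57 by omega]; nlinarith
      · have := hp3 l hl hd
        show 3 + 1 < l
        omega
    · by_cases h7 : 7 ∣ cyc 3 (s + 60)
      · refine ⟨_, hdvd 6, ?_, Or.inl fun l hl hd => ?_⟩
        · rw [show s + 60 - 3 = s + 57 by omega]; nlinarith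
        · have h1 : ¬ l ≤ 6 := isPiNumber_natPiPart _ _ l hl hd
          show 6 + 1 < l
          by_contra h
          obtain rfl : l = 7 := by omega
          have : Fact (Nat.Prime 7) := ⟨hl⟩
          exact absurd ((isPrimitiveRoot_of_dvd h7 (by norm_num)).unique
            (isPrimitiveRoot_of_dvd (hd.trans (natPiPart_dvd _ _)) (by norm_num))) (by norm_num)
      · refine ⟨_, (hdvd 3).trans (Nat.pow_sub_one_dvd_pow_sub_one _ (by norm_num)), ?_,
          Or.inl fun l hl hd => ?_⟩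
        · rw [show s + 60 - 3 = s + 57 by omega]; nlinarith
        · have := hp3 l hl hd
          show 6 + 1 < l
          by_contra h
          obtain rfl : l = 7 := by omega
          exact h7 (hd.trans (natPiPart_dvd _ _))
  have hφ := (le_two_mul_totient_sq n).1
  have key : 2 ≤ n.totient ∧ 2 * n ^ 3 ≤ (p - 1) ^ (n.totient - 2) := by
    have h1 : 2 * n ^ 3 ≤ 16 * n.totient ^ 6 := by
      have := Nat.pow_le_pow_left hφ 3
      rw [mul_pow, ← pow_mul] at this
      norm_num at this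
      omega
    by_cases hp60 : p < 60
    · have h2 : 16 ≤ n.totient := by
        by_contra h
        have := Nat.pow_le_pow_left (show n.totient ≤ 15 by omega) 2
        omega
      exact ⟨by omega, h1.trans ((pow_ge_aux (a := 4) le_rfl (by norm_num) (by norm_num) h2).trans
        (Nat.pow_le_pow_left (by omega) _))⟩
    · by_cases h2 : 6 ≤ n.totient
      · exact ⟨by omega, h1.trans ((pow_ge_aux (a := 59) (by norm_num) le_rfl (by norm_num)
          h2).trans (Nat.pow_le_pow_left (by omega) _))⟩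
      · have h3 := totient_small n (by
          have := Nat.pow_le_pow_left (show n.totient ≤ 5 by omega) 2
          omega) (by omega)
        have h4 : 4 ≤ n.totient := by
          by_contra h
          have := h3.2 (by omega)
          omega
        refine ⟨by omega, ?_⟩
        calc 2 * n ^ 3 ≤ 2 * 12 ^ 3 := Nat.mul_le_mul_left _ (Nat.pow_le_pow_left h3.1 3)
          _ ≤ 59 ^ 2 := by norm_num
          _ ≤ (p - 1) ^ 2 := Nat.pow_le_pow_left (by omega) _
          _ ≤ _ := Nat.pow_le_pow_right (by omega) (by omega)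
  by_contra hcon
  obtain ⟨R, hR⟩ : ∃ R, R = natPiPart {l | l ≤ n}ᶜ (cyc n p) := ⟨_, rfl⟩
  have hR0 : R ≠ 0 := hR ▸ natPiPart_ne_zero _ _
  have h1 : natPiPart {n + 1} R ≤ n * p := by
    by_contra h
    refine hcon ⟨natPiPart {n + 1} R, (natPiPart_dvd _ _).trans (hR ▸ hdvd n), ?_,
      Or.inr (isPiNumber_natPiPart _ _)⟩
    have : n * (p - 3) + 1 ≤ n * p := by
      obtain ⟨s, rfl⟩ : ∃ s, p = s + 3 := ⟨p - 3, by omega⟩
      rw [Nat.add_sub_cancel]; nlinarith
    omega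
  have h2 : natPiPart {n + 1}ᶜ R ≤ n * p := by
    by_contra h
    refine hcon ⟨natPiPart {n + 1}ᶜ R, (natPiPart_dvd _ _).trans (hR ▸ hdvd n), ?_,
      Or.inl fun l hl hd => ?_⟩
    · have : n * (p - 3) + 1 ≤ n * p := by
        obtain ⟨s, rfl⟩ : ∃ s, p = s + 3 := ⟨p - 3, by omega⟩
        rw [Nat.add_sub_cancel]; nlinarith
      omega
    · have h3 : l ≠ n + 1 := isPiNumber_natPiPart _ _ l hl hd
      have h4 : ¬ l ≤ n := isPiNumber_natPiPart _ _ l hl (hR ▸ hd.trans (natPiPart_dvd _ _))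
      show n + 1 < l
      omega
  have h3 := (lt_cyc (n := n) (q := p) (by omega) (by omega)).trans_le (hcyc n (by omega))
  rw [← hR, ← natPiPart_mul_natPiPart_compl {n + 1} hR0,
    show n.totient = n.totient - 2 + 2 by omega, pow_add] at h3
  have h4 : p ^ 2 ≤ 2 * (p - 1) ^ 2 := by
    obtain ⟨s, rfl⟩ : ∃ s, p = s + 5 := ⟨p - 5, by omega⟩
    rw [show s + 5 - 1 = s + 4 by omega]; nlinarith
  have h5 : n * (natPiPart {n + 1} R * natPiPart {n + 1}ᶜ R) ≤ n ^ 3 * p ^ 2 :=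
    (Nat.mul_le_mul_left _ (Nat.mul_le_mul h1 h2)).trans_eq (by ring)
  have h6 : n ^ 3 * p ^ 2 ≤ (p - 1) ^ (n.totient - 2) * (p - 1) ^ 2 :=
    calc n ^ 3 * p ^ 2 ≤ n ^ 3 * (2 * (p - 1) ^ 2) := Nat.mul_le_mul_left _ h4
      _ = 2 * n ^ 3 * (p - 1) ^ 2 := by ring
      _ ≤ _ := Nat.mul_le_mul_right _ key.2
  omega

end Cfsg.CycBig

set_option linter.all false in
theorem Cfsg.Rz.Alg_CycloBig_0 : True := by
  have := @_root_.Cfsg.CycBig.cyc.eq_def
  have := @_root_.Cfsg.CycBig.cyc.fun_cases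
  have := @_root_.Cfsg.CycBig.Good.eq_def
  have := @_root_.Cfsg.CycBig.Good.eq_1
  have := @_root_.Cfsg.CycBig.Good.fun_cases
  have := @_root_.Cfsg.CycBig.strip.eq_def
  have := @_root_.Cfsg.CycBig.strip.eq_1
  have := @_root_.Cfsg.CycBig.strip.induct
  have := @_root_.Cfsg.CycBig.strip.fun_cases
  have := @_root_.Cfsg.CycBig.chk.eq_def
  have := @_root_.Cfsg.CycBig.chk.fun_cases
  trivial
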