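import Mathlib.Algebra.BigOperators.Ring.Finset
import Mathlib.Algebra.BigOperators.Fin
import Mathlib.Algebra.Order.BigOperators.Ring.Finset
import Mathlib.Data.Fintype.Sum
import Mathlib.Data.Fintype.BigOperators
import Mathlib.Data.Fin.VecNotation
import Mathlib.Tactic.Linarith
import Mathlib.Tactic.LinearCombination
import Mathlib.Tactic.FinCases
import Mathlib.Tactic.IntervalCases
import Mathlib.Tactic.Positivity

/-!
# Integer vectors of small norm: the numerical part of the theory of tame blocks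
-/

set_option autoImplicit false
set_option linter.unusedSectionVars false

namespace Cfsg.TameNum

open Finset

variable {ι J : Type*} [Fintype ι] [DecidableEq ι] [Fintype J] [DecidableEq J]

theorem sq_le_sum (v : ι → ℤ) {S : Finset ι} {i : ι} (hi : i ∈ S) : v i * v i ≤ ∑ i ∈ S, v i * v i :=
  single_le_sum (f := fun i => v i * v i) (fun _ _ => mul_self_nonneg _) hi

theorem add_sq_le_sum (v : ι → ℤ) {S : Finset ι} {i j : ι} (hi : i ∈ S) (hj : j ∈ S) (h : i ≠ j) :
    v i * v i + v j * v j ≤ ∑ i ∈ S, v i * v i :=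
  add_le_sum (f := fun i => v i * v i) (fun _ _ => mul_self_nonneg _) hi hj h

theorem sign_of_odd {a : ℤ} (h : Odd a) (h' : a * a < 9) : a = 1 ∨ a = -1 := by
  obtain ⟨k, rfl⟩ := h
  have : k = 0 ∨ k = -1 := by
    have h1 : k < 1 := by nlinarith
    have h2 : -2 < k := by nlinarith
    omega
  omega

theorem one_le_sq {a : ℤ} (h : a ≠ 0) : 1 ≤ a * a := by
  have := mul_self_pos.2 h
  omega

theorem norm_four {A : ι → ℤ} (hA : ∑ i, A i * A i = 4) (hodd : ∃ i, Odd (A i)) :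
    (univ.filter fun i => Odd (A i)).card = 4 ∧ (∀ i, Odd (A i) → A i * A i = 1) ∧
      ∀ i, ¬ Odd (A i) → A i = 0 := by
  obtain ⟨i₀, h₀⟩ := hodd
  have h1 : ∀ i, Odd (A i) → A i * A i = 1 := fun i hi => by
    rcases sign_of_odd hi (by have := sq_le_sum A (mem_univ i); omega) with e | e <;> simp [e]
  have h2 : ∀ i, ¬ Odd (A i) → A i = 0 := fun i hi => by
    have := add_sq_le_sum A (mem_univ i) (mem_univ i₀) fun e => hi (e ▸ h₀)
    rw [h1 _ h₀] at this
    obtain ⟨k, hk⟩ := Int.not_odd_iff_even.1 hi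
    have : k * k < 1 := by rw [hk] at this; linarith
    have : k = 0 := by by_contra h; have := one_le_sq h; omega
    omega
  refine ⟨?_, h1, h2⟩
  rw [← sum_filter_add_sum_filter_not univ fun i => Odd (A i), sum_congr rfl fun i hi =>
    h1 i (mem_filter.1 hi).2, sum_eq_zero (s := univ.filter fun i => ¬ Odd (A i)) fun i hi => by
      rw [h2 i (mem_filter.1 hi).2, mul_zero]] at hA
  simp only [sum_const, nsmul_eq_mul, mul_one, add_zero] at hA
  exact_mod_cast hA

theorem exists_of_norm_one {v : ι → ℤ} {S : Finset ι} (h : ∑ i ∈ S, v i * v i = 1) :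
    ∃ f ∈ S, v f * v f = 1 ∧ ∀ i ∈ S, i ≠ f → v i = 0 := by
  obtain ⟨f, hf, h0⟩ := exists_ne_zero_of_sum_ne_zero (h.trans_ne one_ne_zero)
  have h1 := one_le_sq (left_ne_zero_of_mul h0)
  refine ⟨f, hf, by have := sq_le_sum v hf; omega, fun i hi hne => by_contra fun h2 => ?_⟩
  have := add_sq_le_sum v hi hf hne
  have := one_le_sq h2
  omega

/-- A vector of norm three having inner product two with a vector of four signs. -/
theorem norm_three {A v : ι → ℤ} {E : Finset ι} (h1 : ∀ i ∈ E, A i * A i = 1)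
    (h2 : ∀ i ∉ E, A i = 0) (hv : ∑ i, v i * v i = 3) (hvA : ∑ i, v i * A i = 2) :
    ∃ S ⊆ E, S.card = 2 ∧ ∃ f ∉ E, v f * v f = 1 ∧
      ∀ i, v i = if i ∈ S then A i else if i = f then v f else 0 := by
  rw [← sum_add_sum_compl E] at hv hvA
  rw [sum_eq_zero (s := Eᶜ) fun i hi => by rw [h2 i (mem_compl.1 hi), mul_zero], add_zero] at hvA
  have h3 : ∀ i ∈ E, 0 ≤ v i * v i - v i * A i ∧ Even (v i * v i - v i * A i) := fun i hi => by
    have : v i * v i - v i * A i = v i * A i * (v i * A i - 1) := by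
      linear_combination (-(v i * v i)) * h1 i hi
    rw [this]
    exact ⟨by rcases le_or_gt (v i * A i) 0 with h | h <;> nlinarith, Int.even_mul_pred_self _⟩
  have h4 := sum_nonneg fun i hi => (h3 i hi).1
  have h5 : Even (∑ i ∈ E, (v i * v i - v i * A i)) := even_iff_two_dvd.2 (dvd_sum fun i hi => (h3 i hi).2.two_dvd)
  have h6 := sum_nonneg (s := Eᶜ) fun i _ => mul_self_nonneg (v i)
  have h7 : ∑ i ∈ E, (v i * v i - v i * A i) = 0 := by
    rw [sum_sub_distrib] at h4 h5 ⊢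
    obtain ⟨k, hk⟩ := h5
    omega
  have h8 : ∀ i ∈ E, v i = A i ∨ v i = 0 := fun i hi => by
    have := (sum_eq_zero_iff_of_nonneg fun i hi => (h3 i hi).1).1 h7 i hi
    rw [← mul_sub, mul_eq_zero, sub_eq_zero] at this
    exact this.symm
  obtain ⟨f, hf, h9, h10⟩ := exists_of_norm_one (v := v) (S := Eᶜ) (by
    rw [sum_sub_distrib] at h7; omega)
  refine ⟨E.filter fun i => v i = A i, filter_subset _ _, ?_, f, mem_compl.1 hf, h9, fun i => ?_⟩
  · rw [← sum_filter_add_sum_filter_not E fun i => v i = A i, sum_congr rfl fun i hi => by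
      rw [(mem_filter.1 hi).2, h1 i (mem_filter.1 hi).1], sum_eq_zero
      (s := E.filter fun i => ¬ v i = A i) fun i hi => by
        rw [(h8 i (mem_filter.1 hi).1).resolve_left (mem_filter.1 hi).2, zero_mul]] at hvA
    simp only [sum_const, nsmul_eq_mul, mul_one, add_zero] at hvA
    exact_mod_cast hvA
  · split_ifs with h h'
    · exact (mem_filter.1 h).2
    · rw [h']
    · by_cases hi : i ∈ E
      · exact (h8 i hi).resolve_left fun e => h (mem_filter.2 ⟨hi, e⟩)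
      · exact h10 i (mem_compl.2 hi) h'

theorem exists_frame {α : J → ι → ℤ} {A T : ι → ℤ} (hT : ∀ i, A i = 0 → (∀ j, α j i = 0) → T i = 0)
    (hT0 : ∀ i, T i ≠ 0) (hA : ∑ i, A i * A i = 4) (hodd : ∃ i, Odd (A i))
    (hαA : ∀ j, ∑ i, α j i * A i = 2)
    (hα : ∀ j l, ∑ i, α j i * α l i = 2 + if j = l then 1 else 0) :
    (Fintype.card ι = 5 ∧ 2 ≤ Fintype.card J) ∨ ∃ (σ : Fin 4 ⊕ J ≃ ι) (δ : J → ℤ),
      (∀ j, δ j * δ j = 1) ∧ (∀ k, A (σ (.inl k)) * A (σ (.inl k)) = 1) ∧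
      (∀ j, A (σ (.inr j)) = 0) ∧ (∀ j k, α j (σ (.inl k)) = ![1, 1, 0, 0] k * A (σ (.inl k))) ∧
      ∀ j l, α j (σ (.inr l)) = if j = l then δ j else 0 := by
  obtain ⟨hE, h1, h2⟩ := norm_four hA hodd
  set E := univ.filter fun i => Odd (A i)
  replace h1 : ∀ i ∈ E, A i * A i = 1 := fun i hi => h1 i (mem_filter.1 hi).2
  replace h2 : ∀ i ∉ E, A i = 0 := fun i hi => h2 i fun h => hi (mem_filter.2 ⟨mem_univ _, h⟩)
  choose S hS hS2 f hf hδ hv using fun j => norm_three h1 h2 (by simpa using hα j j) (hαA j)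
  have hcov : ∀ i ∉ E, ∃ j, i = f j := fun i hi => by_contra fun h => hT0 i (hT i (h2 i hi) fun j => by
    rw [hv, if_neg fun h' => hi (hS j h'), if_neg fun h' => h ⟨j, h'⟩])
  have hip : ∀ j l, j ≠ l →
      ((S j ∩ S l).card : ℤ) + (if f j = f l then α j (f j) * α l (f l) else 0) = 2 := by
    intro j l hjl
    have := hα j l
    rw [if_neg hjl, add_zero, ← sum_add_sum_compl E] at this
    rw [← this]
    congr 1
    · rw [← sum_subset (inter_subset_left.trans (hS j) : S j ∩ S l ⊆ E) fun i _ hi => ?_,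
        sum_congr rfl (g := fun _ => 1) fun i hi => ?_]
      · simp
      · rw [hv j, hv l, if_pos (mem_inter.1 hi).1, if_pos (mem_inter.1 hi).2,
          h1 i (hS j (mem_inter.1 hi).1)]
      · have e1 : i ≠ f j := fun e => hf j (e ▸ ‹_›)
        have e2 : i ≠ f l := fun e => hf l (e ▸ ‹_›)
        rw [hv j, hv l, if_neg e1, if_neg e2]
        rw [mem_inter] at hi
        split_ifs with h h'
        exacts [absurd ⟨h, h'⟩ hi, mul_zero _, zero_mul _, zero_mul _]
    · rw [sum_eq_single_of_mem (f j) (mem_compl.2 (hf j)) fun i hi hne => by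
        rw [hv j, if_neg fun h => mem_compl.1 hi (hS j h), if_neg hne, zero_mul],
        hv l (f j), if_neg fun h => hf j (hS l h)]
      split_ifs <;> simp
  by_cases hall : ∀ j l, S j = S l
  · right
    obtain ⟨S₀, hS₀, hS₀2, hSS⟩ : ∃ S₀ ⊆ E, S₀.card = 2 ∧ ∀ j, S j = S₀ := by
      rcases isEmpty_or_nonempty J with _ | ⟨⟨j⟩⟩
      · obtain ⟨S₀, h, h'⟩ := exists_subset_card_eq (s := E) (n := 2) (by omega)
        exact ⟨S₀, h, h', fun j => isEmptyElim j⟩
      · exact ⟨S j, hS j, hS2 j, fun l => hall l j⟩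
    have hinj : Function.Injective f := fun j l e => by_contra fun hne => by
      have := hip j l hne
      rw [hSS, hSS, inter_self, hS₀2, if_pos e] at this
      have h3 : α j (f j) * α l (f l) = 0 := by push_cast at this; omega
      rcases mul_eq_zero.1 h3 with h | h
      exacts [by simpa [h] using hδ j, by simpa [h] using hδ l]
    obtain ⟨a, b, hab, rfl⟩ := card_eq_two.1 hS₀2
    obtain ⟨c, d, hcd, h3⟩ := card_eq_two.1 (by rw [card_sdiff_of_subset hS₀, hE, hS₀2] :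
      (E \ {a, b}).card = 2)
    have hc : c ∈ E \ {a, b} := h3 ▸ by simp
    have hd : d ∈ E \ {a, b} := h3 ▸ by simp
    have ha : a ∈ E := hS₀ (by simp)
    have hb : b ∈ E := hS₀ (by simp)
    simp only [mem_sdiff, mem_insert, mem_singleton, not_or] at hc hd
    have hm : ∀ k, ![a, b, c, d] k ∈ E := fun k => by fin_cases k <;> simp [ha, hb, hc.1, hd.1]
    refine ⟨Equiv.ofBijective (Sum.elim ![a, b, c, d] f) ⟨Function.Injective.sumElim ?_ hinj
      fun k j e => hf j (e ▸ hm k), fun i => ?_⟩, fun j => α j (f j), hδ, fun k => h1 _ (hm k),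
      fun j => h2 _ (hf j), fun j k => ?_, fun j l => ?_⟩
    · intro k k' e
      have := hab.symm
      have := hcd.symm
      have := Ne.symm hc.2.1
      have := Ne.symm hc.2.2
      have := Ne.symm hd.2.1
      have := Ne.symm hd.2.2
      fin_cases k <;> fin_cases k' <;> simp [*] at e ⊢
    · by_cases hi : i ∈ E
      · by_cases hi' : i ∈ ({a, b} : Finset ι)
        · rcases mem_insert.1 hi' with e | e
          exacts [⟨.inl 0, e.symm⟩, ⟨.inl 1, (mem_singleton.1 e).symm⟩]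
        · rcases mem_insert.1 (h3 ▸ mem_sdiff.2 ⟨hi, hi'⟩) with e | e
          exacts [⟨.inl 2, e.symm⟩, ⟨.inl 3, (mem_singleton.1 e).symm⟩]
      · obtain ⟨j, rfl⟩ := hcov i hi
        exact ⟨.inr j, rfl⟩
    · have : ![a, b, c, d] k ≠ f j := fun e => hf j (e ▸ hm k)
      change α j (![a, b, c, d] k) = _ * A (![a, b, c, d] k)
      rw [hv, hSS, if_neg this]
      fin_cases k <;> simp [hc.2, hd.2]
    · change α j (f l) = _
      rw [hv, if_neg fun h => hf l (hS j h)]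
      simp only [hinj.eq_iff, eq_comm]
  · left
    push Not at hall
    obtain ⟨j, l, hjl⟩ := hall
    have key : ∀ j l, S j ≠ S l → f j = f l := fun j l hne => by_contra fun h => by
      have := hip j l fun e => hne (e ▸ rfl)
      rw [if_neg h, add_zero] at this
      exact hne ((eq_of_subset_of_card_le inter_subset_left (by rw [hS2]; omega)).symm.trans
        (eq_of_subset_of_card_le inter_subset_right (by rw [hS2]; omega)))
    have hall : ∀ t, f t = f j := fun t => by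
      by_cases h : S t = S j
      · exact (key t l (h ▸ hjl)).trans (key j l hjl).symm
      · exact key t j h
    refine ⟨?_, Fintype.one_lt_card_iff.2 ⟨j, l, fun e => hjl (e ▸ rfl)⟩⟩
    rw [← card_univ, show (univ : Finset ι) = insert (f j) E from (eq_univ_of_forall fun i => by
      by_cases hi : i ∈ E
      · exact mem_insert_of_mem hi
      · obtain ⟨t, rfl⟩ := hcov i hi
        exact mem_insert.2 (.inl (hall t))).symm, card_insert_of_notMem (hf j), hE]

/-- `w` is orthogonal to `A` and to all `α j`. -/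
def Perp (A : ι → ℤ) (α : J → ι → ℤ) (w : ι → ℤ) : Prop :=
  ∑ i, w i * A i = 0 ∧ ∀ j, ∑ i, w i * α j i = 0

/-- Two orthogonal vectors of norms `4` and `N` which are congruent modulo `2`. -/
structure Pair (N : ℤ) (u t : ι → ℤ) : Prop where
  uu : ∑ i, u i * u i = 4
  tt : ∑ i, t i * t i = N
  ut : ∑ i, u i * t i = 0
  even : ∀ i, Even (u i - t i)

theorem dihedral {α : J → ι → ℤ} {A T : ι → ℤ} {s : ℤ} {ε : J → ℤ} (hε : ∀ j, ε j * ε j = 1)
    (hT : ∀ i, T i = s * A i + 2 * ∑ j, ε j * α j i)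
    (hT0 : ∀ i, T i ≠ 0) (hA : ∑ i, A i * A i = 4) (hodd : ∃ i, Odd (A i))
    (hαA : ∀ j, ∑ i, α j i * A i = 2)
    (hα : ∀ j l, ∑ i, α j i * α l i = 2 + if j = l then 1 else 0) :
    (Fintype.card ι = 5 ∧ 2 ≤ Fintype.card J) ∨ (Fintype.card ι = Fintype.card J + 4 ∧
      (∀ i, ¬ Odd (A i) → T i * T i = 4) ∧
      (∃ u v t, Pair (4 + 4 * Fintype.card J) u t ∧ Pair (4 + 4 * Fintype.card J) v t ∧
        ∑ i, u i * v i = 0 ∧ Perp A α u ∧ Perp A α v ∧ Perp A α t) ∧
      ∀ Y : ι → ℤ, ∑ i, Y i * Y i = 4 → (∀ i, Odd (A i) → Odd (Y i)) → Perp A α Y →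
        ∃ u t, Pair (4 + 4 * Fintype.card J) u t ∧ Perp A α u ∧ Perp A α t ∧
          ∑ i, u i * Y i = 0 ∧ ∑ i, t i * Y i = 0) := by
  refine (exists_frame (fun i h1 h2 => by simp [hT, h1, h2]) hT0 hA hodd hαA hα).imp_right ?_
  rintro ⟨σ, δ, hδ, h1, h2, h3, h4⟩
  obtain ⟨mk, hm1, hm2⟩ : ∃ mk : (Fin 4 → ℤ) → ℤ → ι → ℤ, (∀ c d k, mk c d (σ (.inl k)) =
      c k * A (σ (.inl k))) ∧ ∀ c d j, mk c d (σ (.inr j)) = d * δ j :=
    ⟨fun c d i => (σ.symm i).elim (fun k => c k * A (σ (.inl k))) fun j => d * δ j, by simp, by simp⟩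
  have hodd' : ∀ k, Odd (A (σ (.inl k))) := fun k => by
    rcases mul_self_eq_one_iff.1 (h1 k) with e | e <;> simp [e]
  have hs : ∀ F : ι → ℤ, ∑ i, F i = ∑ k, F (σ (.inl k)) + ∑ j, F (σ (.inr j)) := fun F => by
    rw [← σ.sum_comp, Fintype.sum_sum_type]
  have hip : ∀ c d c' d', ∑ i, mk c d i * mk c' d' i =
      c 0 * c' 0 + c 1 * c' 1 + c 2 * c' 2 + c 3 * c' 3 + d * d' * Fintype.card J := by
    intro c d c' d'
    simp only [hs, hm1, hm2, mul_mul_mul_comm _ (A _), mul_mul_mul_comm d, h1, hδ, mul_one,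
      Fin.sum_univ_four, sum_const, card_univ, nsmul_eq_mul, mul_comm (Fintype.card J : ℤ)]
  have hp : ∀ c d, Perp A α (mk c d) ↔ c 0 + c 1 + c 2 + c 3 = 0 ∧ ∀ _ : J, c 0 + c 1 + d = 0 := by
    intro c d
    simp only [Perp, hs, hm1, hm2, h2, h3, h4, mul_mul_mul_comm _ (A _), mul_assoc _ (A _), h1,
      Fin.sum_univ_four, mul_ite, mul_zero, sum_ite_eq, mem_univ, if_true, mul_assoc d, hδ]
    simp
  have he : ∀ (c c' : Fin 4 → ℤ) (d d' : ℤ), (∀ k, Even (c k - c' k)) → (∀ _ : J, Even (d - d')) →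
      ∀ i, Even (mk c d i - mk c' d' i) := fun c c' d d' e e' i => by
    obtain ⟨k | j, rfl⟩ := σ.surjective i
    · rw [hm1, hm1, ← sub_mul]; exact (e k).mul_right _
    · rw [hm2, hm2, ← sub_mul]; exact (e' j).mul_right _
  have p1 : Pair (4 + 4 * Fintype.card J) (mk ![1, -1, 1, -1] 0) (mk ![1, 1, -1, -1] (-2)) :=
    ⟨by simp [hip], by simp [hip], by simp [hip], he _ _ _ _ (by decide) fun _ => by decide⟩
  have p2 : Pair (4 + 4 * Fintype.card J) (mk ![1, -1, -1, 1] 0) (mk ![1, 1, -1, -1] (-2)) :=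
    ⟨by simp [hip], by simp [hip], by simp [hip], he _ _ _ _ (by decide) fun _ => by decide⟩
  refine ⟨by rw [← Fintype.card_congr σ]; simp [add_comm], fun i hi => ?_,
    ⟨_, _, _, p1, p2, by simp [hip], by simp [hp], by simp [hp], by simp [hp]⟩, fun Y hY hY' hp' => ?_⟩
  · obtain ⟨k | j, rfl⟩ := σ.surjective i
    · exact absurd (hodd' k) hi
    · simp only [hT, h2, h4, mul_ite, mul_zero, sum_ite_eq', mem_univ, if_true, zero_add]
      linear_combination 4 * δ j * δ j * hε j + 4 * hδ j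
  · have h5 : ∀ k, 1 ≤ Y (σ (.inl k)) * Y (σ (.inl k)) := fun k =>
      one_le_sq fun e => Int.not_odd_zero (e ▸ hY' _ (hodd' k))
    have h6 : ∀ j, 0 ≤ Y (σ (.inr j)) * Y (σ (.inr j)) := fun j => mul_self_nonneg _
    have h7 := sum_nonneg (s := univ) fun j _ => h6 j
    rw [hs, Fin.sum_univ_four] at hY
    have h8 := (sum_eq_zero_iff_of_nonneg (s := univ) fun j _ => h6 j).1 (by
      linarith [h5 0, h5 1, h5 2, h5 3])
    obtain ⟨y, rfl⟩ : ∃ y, Y = mk y 0 := ⟨fun k => Y (σ (.inl k)) * A (σ (.inl k)), funext fun i => by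
      obtain ⟨k | j, rfl⟩ := σ.surjective i
      · rw [hm1, mul_assoc, h1, mul_one]
      · rw [hm2, zero_mul, mul_self_eq_zero.1 (h8 j (mem_univ j))]⟩
    simp only [hm1, mul_mul_mul_comm _ (A _), h1, mul_one] at h5 hY
    have h9 : ∀ k, y k = 1 ∨ y k = -1 := fun k => mul_self_eq_one_iff.1 (by
      fin_cases k <;> simp only [Fin.reduceFinMk, Fin.zero_eta, Fin.mk_one] <;>
        linarith [h5 0, h5 1, h5 2, h5 3])
    rw [hp] at hp'
    by_cases h10 : y 0 + y 1 = 0
    · by_cases h11 : y 0 = y 2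
      · exact ⟨_, _, p2, by simp [hp], by simp [hp], by simp [hip]; omega, by simp [hip]; omega⟩
      · have := h9 0
        have := h9 2
        exact ⟨_, _, p1, by simp [hp], by simp [hp], by simp [hip]; omega, by simp [hip]; omega⟩
    · haveI : IsEmpty J := ⟨fun j => h10 (by simpa using hp'.2 j)⟩
      have := h9 0
      have := h9 1
      have := h9 2
      have := h9 3
      exact ⟨mk ![1, -1, 1, -1] 0, mk ![1, -1, -1, 1] 0, ⟨by simp [hip], by simp [hip], by simp [hip],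
        he _ _ _ _ (by decide) fun _ => by decide⟩, by simp [hp], by simp [hp],
        by simp [hip]; omega, by simp [hip]; omega⟩

theorem sq_of_odd {a : ℤ} (h : Odd a) : ∃ k, 0 ≤ k ∧ a * a = 8 * k + 1 := by
  obtain ⟨k, rfl⟩ := h
  obtain ⟨l, hl⟩ := Int.even_mul_succ_self k
  exact ⟨l, by nlinarith [mul_self_nonneg (2 * k + 1)], by linarith⟩

theorem ne_twelve {E : Finset ι} (hE : E.card = 4) {A w T : ι → ℤ} (hA : ∀ i ∈ E, A i * A i = 1)
    (hw : ∀ i ∈ E, w i * w i = 1) (hT : ∀ i ∈ E, Odd (T i)) (h1 : ∑ i ∈ E, A i * T i = 0)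
    (h2 : ∑ i ∈ E, w i * T i = 0) (h3 : ∑ i ∈ E, A i * w i = 0) : ∑ i ∈ E, T i * T i ≠ 12 := by
  intro h
  have key : ∀ i ∈ E, (A i * w i = 1 ∧ w i * T i = A i * T i ∨ A i * w i = -1 ∧ w i * T i = -(A i * T i)) ∧
      (T i * T i = 1 ∧ (A i * T i = 1 ∨ A i * T i = -1) ∨
        T i * T i = 9 ∧ (A i * T i = 3 ∨ A i * T i = -3)) := fun i hi => by
    have h4 := sq_le_sum T hi
    obtain ⟨k, hk⟩ := hT i hi
    have h5 : T i = 1 ∨ T i = -1 ∨ T i = 3 ∨ T i = -3 := by
      have : k < 2 := by nlinarith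
      have : -3 < k := by nlinarith
      omega
    rcases mul_self_eq_one_iff.1 (hA i hi) with e | e <;>
      rcases mul_self_eq_one_iff.1 (hw i hi) with e' | e' <;>
      rcases h5 with e'' | e'' | e'' | e'' <;> simp [e, e', e'']
  obtain ⟨a, b, c, d, hab, hac, had, hbc, hbd, hcd, rfl⟩ := card_eq_four.1 hE
  rw [sum_insert (by simp [*]), sum_insert (by simp [*]), sum_pair hcd] at h h1 h2 h3
  have := key a (by simp)
  have := key b (by simp)
  have := key c (by simp)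
  have := key d (by simp)
  omega

/-- `w` is zero, or a vector of norm eight which is orthogonal to `A` and `T` and congruent to `T`. -/
def Col (A T w : ι → ℤ) : Prop :=
  w = 0 ∨ ∑ i, w i * w i = 8 ∧ ∑ i, w i * T i = 0 ∧ ∑ i, A i * w i = 0 ∧ ∀ i, Even (w i - T i)

theorem Col.even_sub {A T w : ι → ℤ} (h : Col A T w) {i j : ι} (hij : Even (T i - T j)) :
    Even (w i - w j) := by
  rcases h with rfl | ⟨-, -, -, h⟩
  · simp
  · have := h i
    have := h j
    simp only [Int.even_iff] at *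
    omega

theorem Col.even {A T w : ι → ℤ} (h : Col A T w) {i : ι} (hi : Even (T i)) : Even (w i) := by
  rcases h with rfl | ⟨-, -, -, h⟩
  · simp
  · simpa using (h i).add hi

theorem Col.exists {A T w : ι → ℤ} (h : Col A T w) (h0 : w ≠ 0) {E : Finset ι} (hE : E.card = 4)
    (hT : ∀ i, i ∈ E ↔ Odd (T i)) (hw : ∀ i, w i * w i < 8) :
    (∀ i ∈ E, w i * w i = 1) ∧ ∃ f, ∀ i ∉ E, i ≠ f → w i = 0 := by
  obtain ⟨h8, -, -, h1⟩ := h.resolve_left h0
  have h2 : ∀ i ∈ E, w i * w i = 1 := fun i hi =>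
    mul_self_eq_one_iff.2 (sign_of_odd (by simpa using (h1 i).add_odd ((hT i).1 hi))
      (by linarith [hw i]))
  choose! c hc using fun i (hi : i ∈ Eᶜ) => h.even (Int.not_odd_iff_even.1 (mt (hT i).2 (mem_compl.1 hi)))
  rw [← sum_add_sum_compl E, sum_congr rfl h2, sum_congr rfl (s₁ := Eᶜ) (g := fun i => 4 * (c i * c i))
    fun i hi => by rw [hc i hi]; ring, ← mul_sum] at h8
  obtain ⟨f, -, -, hf⟩ := exists_of_norm_one (v := c) (S := Eᶜ) (by simp [hE] at h8; omega)
  exact ⟨h2, f, fun i hi hne => by rw [hc i (mem_compl.2 hi), hf i (mem_compl.2 hi) hne, add_zero]⟩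

theorem quaternion {n : ℕ} {N : ι → ι → ℤ} {h : ι → ℕ} {A T u v : ι → ℤ}
    (hN : ∀ i j, N i j = 2 ^ n * (u i * u j + v i * v j) + T i * T j)
    (hval : ∀ i j, h j = 0 → ∀ k, 2 ^ k ∣ N i j ↔ k ≤ h i) (hlt : ∀ i, N i i < 8 * 2 ^ n)
    (hA : ∑ i, A i * A i = 4) (hAo : ∀ i, Odd (A i) ↔ h i = 0) (h0 : ∃ i, h i = 0)
    (hT : ∑ i, T i * T i = 8 * 2 ^ n) (hAT : ∑ i, A i * T i = 0) (hu : Col A T u) (hv : Col A T v)
    (huv : u = 0 → v = 0) (hk : 2 * 2 ^ n + 2 ≤ Fintype.card ι)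
    (hk' : v ≠ 0 → 2 * 2 ^ n + 3 ≤ Fintype.card ι) :
    (univ.filter fun i => h i = 0).card = 4 ∧ ∃ Z : Finset ι, Fintype.card ι = 2 * 2 ^ n + 3 + Z.card ∧
      Z.card ≤ 2 ∧ (v = 0 → Z.card ≤ 1) ∧ (∀ i ∈ Z, h i = n + 1) ∧ ∀ i ∉ Z, h i ≤ 1 := by
  obtain ⟨j, hj⟩ := h0
  obtain ⟨hE, hA1, hA0⟩ := norm_four hA ⟨j, (hAo j).2 hj⟩
  simp only [hAo] at hE hA1 hA0
  refine ⟨hE, ?_⟩
  obtain ⟨E, hE'⟩ : ∃ E, E = univ.filter fun i => h i = 0 := ⟨_, rfl⟩
  rw [← hE'] at hE
  replace hE' : ∀ i, i ∈ E ↔ h i = 0 := by simp [hE']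
  have hm : (0 : ℤ) < 2 ^ n := by positivity
  have s1 : ∀ i, h i = 0 → Odd (T i) := fun i hi => Int.not_even_iff_odd.1 fun he => by
    have := (hval i i hi 1).1 (by
      rw [hN, pow_one]
      exact ((((hu.even he).mul_right _).add ((hv.even he).mul_right _)).mul_left _ |>.add
        (he.mul_right _)).two_dvd)
    omega
  have s2 : ∀ i, i ∈ E ↔ Odd (T i) := fun i => ⟨fun hi => s1 i ((hE' i).1 hi), fun ho => by
    by_contra hi
    have e := ho.sub_odd (s1 j hj)
    have h1 := (hval i j hj 1).2 (Nat.one_le_iff_ne_zero.2 (mt (hE' i).2 hi))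
    have h2 : Even (N i j - N j j) := by
      rw [show N i j - N j j = 2 ^ n * ((u i - u j) * u j + (v i - v j) * v j) + (T i - T j) * T j by
        rw [hN, hN]; ring]
      exact (((hu.even_sub e).mul_right _).add ((hv.even_sub e).mul_right _)).mul_left _ |>.add
        (e.mul_right _)
    have := (hval j j hj 1).1 (by
      have := dvd_sub h1 h2.two_dvd; rwa [sub_sub_cancel] at this)
    omega⟩
  have s2' : ∀ i ∉ E, Even (T i) := fun i hi => Int.not_odd_iff_even.1 (mt (s2 i).2 hi)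
  have s3 : ∀ i, 2 ^ n * (u i * u i + v i * v i) + T i * T i < 8 * 2 ^ n := fun i => hN i i ▸ hlt i
  have s4 : ∀ i, u i * u i + v i * v i < 8 := fun i => by nlinarith [s3 i, mul_self_nonneg (T i)]
  have su := fun h0 => hu.exists h0 hE s2 fun i => by nlinarith [s4 i, mul_self_nonneg (v i)]
  have sv := fun h0 => hv.exists h0 hE s2 fun i => by nlinarith [s4 i, mul_self_nonneg (u i)]
  have hjE := (hE' j).2 hj
  obtain ⟨Z, hZ⟩ : ∃ Z : Finset ι, ∀ i, i ∈ Z ↔ T i = 0 := ⟨univ.filter fun i => T i = 0, by simp⟩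
  have hZE : ∀ i ∈ Z, i ∉ E := fun i hi hi' => Int.not_odd_zero ((hZ i).1 hi ▸ (s2 i).1 hi')
  have s5 : ∀ i ∈ Z, (u i ≠ 0 ∨ v i ≠ 0) ∧ h i = n + 1 := fun i hi => by
    have h1 := hval i j hj
    obtain ⟨a, ha⟩ := hu.even (s2' i (hZE i hi))
    obtain ⟨b, hb⟩ := hv.even (s2' i (hZE i hi))
    have h2 : a * a + b * b < 2 := by have := s4 i; rw [ha, hb] at this; linarith
    have h3 : u i ≠ 0 ∨ v i ≠ 0 := by
      by_contra! h3
      have := (h1 (h i + 1)).1 (by simp [hN, h3, (hZ i).1 hi])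
      omega
    obtain ⟨c, hc, e⟩ : ∃ c : ℤ, c * c = 1 ∧ N i j = 2 ^ (n + 1) * c := by
      rcases h3 with h3 | h3
      · have := one_le_sq (show a ≠ 0 by omega)
        have h4 : b = 0 := mul_self_eq_zero.1 (by nlinarith [mul_self_nonneg b])
        exact ⟨a * u j, by rw [mul_mul_mul_comm, (su fun e => h3 (by simp [e])).1 j hjE]; simp [h4] at h2; omega,
          by rw [hN, ha, hb, h4, (hZ i).1 hi]; ring⟩
      · have := one_le_sq (show b ≠ 0 by omega)
        have h4 : a = 0 := mul_self_eq_zero.1 (by nlinarith [mul_self_nonneg a])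
        exact ⟨b * v j, by rw [mul_mul_mul_comm, (sv fun e => h3 (by simp [e])).1 j hjE]; simp [h4] at h2; omega,
          by rw [hN, ha, hb, h4, (hZ i).1 hi]; ring⟩
    refine ⟨h3, le_antisymm (by_contra fun h4 => ?_) ((h1 _).1 (e ▸ dvd_mul_right _ _))⟩
    have := (h1 (n + 1 + 1)).2 (by omega)
    rw [e, pow_succ _ (n + 1), mul_dvd_mul_iff_left (by positivity)] at this
    rcases mul_self_eq_one_iff.1 hc with rfl | rfl <;> omega
  obtain ⟨a, ha⟩ : ∃ a, ∀ i ∉ E, i ≠ a → u i = 0 := by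
    by_cases h1 : u = 0
    exacts [⟨j, by simp [h1]⟩, (su h1).2]
  obtain ⟨b, hb⟩ : ∃ b, ∀ i ∉ E, i ≠ b → v i = 0 := by
    by_cases h1 : v = 0
    exacts [⟨j, by simp [h1]⟩, (sv h1).2]
  have s6 : Z ⊆ {a, b} := fun i hi => by_contra fun h1 => by
    simp only [mem_insert, mem_singleton, not_or] at h1
    exact (s5 i hi).1.elim (· (ha i (hZE i hi) h1.1)) (· (hb i (hZE i hi) h1.2))
  have s7 : v = 0 → Z ⊆ {a} := fun h1 i hi => by_contra fun h2 =>
    (s5 i hi).1.elim (· (ha i (hZE i hi) (by simpa using h2))) (· (by simp [h1]))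
  have c6 : Z.card ≤ 2 := (card_le_card s6).trans card_le_two
  have c7 : v = 0 → Z.card ≤ 1 := fun h1 => card_le_card (s7 h1)
  choose! c hc using s2'
  obtain ⟨R, hR⟩ : ∃ R, R = Eᶜ \ Z := ⟨_, rfl⟩
  have hRE : ∀ i ∈ R, i ∉ E ∧ i ∉ Z := fun i hi => by simpa [hR] using hi
  have c1 : Fintype.card ι = 4 + R.card + Z.card := by
    rw [hR, add_assoc, card_sdiff_add_card_eq_card fun i hi => mem_compl.2 (hZE i hi), ← hE,
      card_add_card_compl]
  have c2 : ∀ i ∈ R, 1 ≤ c i * c i := fun i hi => one_le_sq fun e => (hRE i hi).2 ((hZ i).2 (by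
    rw [hc i (hRE i hi).1, e, add_zero]))
  have c3 : ∑ i ∈ E, T i * T i + 4 * ∑ i ∈ R, c i * c i = 8 * 2 ^ n := by
    rw [← hT, ← sum_add_sum_compl E, mul_sum, ← sum_sdiff (s₁ := Z) fun i hi => mem_compl.2 (hZE i hi),
      sum_eq_zero (s := Z) fun i hi => by rw [(hZ i).1 hi, mul_zero], add_zero, ← hR]
    exact congrArg _ (sum_congr rfl fun i hi => by rw [hc i (hRE i hi).1]; ring)
  have c4 : (R.card : ℤ) ≤ ∑ i ∈ R, c i * c i := by simpa using sum_le_sum c2
  choose! t ht0 ht using fun i (hi : i ∈ E) => sq_of_odd ((s2 i).1 hi)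
  have c5 : ∑ i ∈ E, T i * T i = 8 * ∑ i ∈ E, t i + 4 := by
    rw [sum_congr rfl ht, sum_add_distrib, ← mul_sum]; simp [hE]
  have c8 := sum_nonneg ht0
  have hk1 : (2 * 2 ^ n + 2 : ℤ) ≤ 4 + R.card + Z.card := by exact_mod_cast c1 ▸ hk
  have hk2 : v ≠ 0 → (2 * 2 ^ n + 3 : ℤ) ≤ 4 + R.card + Z.card := fun e => by
    exact_mod_cast c1 ▸ hk' e
  have c9 : (2 * 2 ^ n - 3 : ℤ) ≤ R.card := by
    by_cases e : v = 0
    · have := c7 e; omega
    · have := hk2 e; omega
  have hAE : ∀ F : ι → ℤ, ∑ i, A i * F i = ∑ i ∈ E, A i * F i := fun F =>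
    (sum_subset (subset_univ E) fun i _ hi => by rw [hA0 i (mt (hE' i).2 hi), zero_mul]).symm
  have c10 : ∑ i ∈ E, t i = 0 := by_contra fun e => by
    have haZ : a ∈ Z ∧ u ≠ 0 := by
      by_cases e' : v = 0
      · obtain ⟨i, hi⟩ := card_pos.1 (show 0 < Z.card by omega)
        exact ⟨mem_singleton.1 (s7 e' hi) ▸ hi, fun e'' => by simpa [e', e''] using (s5 i hi).1⟩
      · have := hk2 e'
        exact ⟨eq_of_subset_of_card_le s6 (card_le_two.trans (by omega)) ▸ mem_insert_self a _,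
          mt huv e'⟩
    obtain ⟨-, h1, h2, -⟩ := hu.resolve_left haZ.2
    refine ne_twelve hE (fun i hi => hA1 i ((hE' i).1 hi)) (su haZ.2).1 (fun i => (s2 i).1)
      (hAE T ▸ hAT) (h1 ▸ sum_subset (subset_univ E) fun i _ hi => ?_) (hAE u ▸ h2) (by omega)
    by_cases h3 : i = a
    · rw [h3, (hZ a).1 haZ.1, mul_zero]
    · rw [ha i hi h3, zero_mul]
  have c11 : ∀ i ∈ R, c i * c i = 1 := fun i hi => by_contra fun e => by
    have h1 : 4 ≤ c i * c i := by
      have := c2 i hi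
      rcases le_or_gt 2 (c i) with h | h
      · nlinarith
      rcases le_or_gt (c i) (-2) with h' | h'
      · nlinarith
      · obtain h1 | h1 | h1 : c i = -1 ∨ c i = 0 ∨ c i = 1 := by omega
        all_goals simp [h1] at e this
    have := sum_le_sum fun l (hl : l ∈ R.erase i) => c2 l (mem_of_mem_erase hl)
    rw [← add_sum_erase _ _ hi] at c3
    simp only [sum_const, card_erase_of_mem hi, nsmul_eq_mul, mul_one] at this
    omega
  have c12 : ∑ i ∈ R, c i * c i = R.card := by simp [sum_congr rfl c11]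
  refine ⟨Z, by zify; omega, c6, c7, fun i hi => (s5 i hi).2, fun i hi => by_contra fun e => ?_⟩
  have hiE : i ∉ E := fun e' => e (by rw [(hE' i).1 e']; omega)
  have hi' := c11 i (by simp [hR, hi, hiE])
  have h1 := (hval i j hj 2).2 (by omega)
  have h2 : T j * T j = 1 := by
    rw [ht j hjE, (sum_eq_zero_iff_of_nonneg ht0).1 c10 j hjE]; rfl
  obtain ⟨a', ha'⟩ := hu.even (hc i hiE ▸ ⟨_, rfl⟩ : Even (T i))
  obtain ⟨b', hb'⟩ := hv.even (hc i hiE ▸ ⟨_, rfl⟩ : Even (T i))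
  have h3 : 2 ∣ 2 ^ n * (a' * u j + b' * v j) := by
    rcases n with _ | n
    · have h4 := s3 i
      rw [ha', hb', hc i hiE] at h4
      have h5 : a' * a' = 0 := by nlinarith [mul_self_nonneg a', mul_self_nonneg b']
      have h6 : b' * b' = 0 := by nlinarith [mul_self_nonneg a', mul_self_nonneg b']
      simp [mul_self_eq_zero.1 h5, mul_self_eq_zero.1 h6]
    · exact (dvd_pow_self 2 n.succ_ne_zero).mul_right _
  rw [hN, ha', hb', hc i hiE, show 2 ^ n * ((a' + a') * u j + (b' + b') * v j) + (c i + c i) * T j =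
    2 * (2 ^ n * (a' * u j + b' * v j) + c i * T j) by ring, sq,
    mul_dvd_mul_iff_left two_ne_zero, dvd_add_right h3] at h1
  rcases mul_self_eq_one_iff.1 hi' with e | e <;> rcases mul_self_eq_one_iff.1 h2 with e' | e' <;>
    simp [e, e'] at h1

end Cfsg.TameNum

set_option linter.all false in
theorem Cfsg.Rz.Alg_TameNum_0 : True := by
  have := @_root_.Cfsg.TameNum.Perp.eq_def.{0, 0}
  have := @_root_.Cfsg.TameNum.Perp.fun_cases
  have := @_root_.Cfsg.TameNum.Pair.mk.congr_simp.{0}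
  have := @_root_.Cfsg.TameNum.Col.eq_def.{0}
  have := @_root_.Cfsg.TameNum.Col.eq_1.{0}
  have := @_root_.Cfsg.TameNum.Col.fun_cases
  trivial
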